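import Groth.Prelude.Def_Cyc
import Groth.Agent.FlatMorWeightLen.Main
import Groth.Agent.CycLib28.PB.GysinSquare
import Mathlib.AlgebraicGeometry.Morphisms.FlatRank
import Mathlib.FieldTheory.Normal.Defs
import Mathlib.FieldTheory.IsAlgClosed.AlgebraicClosure

/-!
# Descent of invariant cycles along a normal extension of the base field
-/

set_option autoImplicit false
set_option backward.isDefEq.respectTransparency false
set_option linter.style.haveILetI false
set_option maxHeartbeats 800000

universe u

open CategoryTheory CategoryTheory.Limits AlgebraicGeometry IsLocalRing Groth.Agent.CycLib28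
open scoped Topology

namespace Groth.Agent.CycDesc28

variable {k k' : Type u} [Field k] [Field k'] [Algebra k k'] {X X' : Scheme.{u}}
  {f : X ⟶ Spec (CommRingCat.of k)} {p : X' ⟶ X} {g : X' ⟶ Spec (CommRingCat.of k')}

/-- The automorphisms of a normal extension act transitively on the fibres of the projection. -/
theorem exists_auto [Normal k k']
    (h : IsPullback p g f (Spec.map (CommRingCat.ofHom (algebraMap k k')))) (a b : X') (hab : p a = p b) :
    ∃ (σ : k' ≃ₐ[k] k') (t : X' ⟶ X'), t ≫ p = p ∧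
      t ≫ g = g ≫ Spec.map (CommRingCat.ofHom σ.toAlgHom.toRingHom) ∧ t a = b := by
  obtain ⟨z, hza, hzb⟩ := Scheme.Pullback.exists_preimage_pullback (f := p) (g := p) a b hab
  let Ω := AlgebraicClosure ((pullback p p).residueField z)
  let ω : Spec (CommRingCat.of Ω) ⟶ pullback p p :=
    Spec.map (CommRingCat.ofHom (algebraMap ((pullback p p).residueField z) Ω)) ≫
      (pullback p p).fromSpecResidueField z
  let a₁ := ω ≫ pullback.fst p p
  let a₂ := ω ≫ pullback.snd p p
  have hω : ∀ w, ω w = z := fun w => by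
    show (pullback p p).fromSpecResidueField z _ = z
    exact Scheme.fromSpecResidueField_apply _ _
  have ha₁ : ∀ w, a₁ w = a := fun w => by
    show pullback.fst p p (ω w) = a
    rw [hω, hza]
  have ha₂ : ∀ w, a₂ w = b := fun w => by
    show pullback.snd p p (ω w) = b
    rw [hω, hzb]
  have hp : a₁ ≫ p = a₂ ≫ p := by simp [a₁, a₂, pullback.condition]
  let φ₁ := (Spec.preimage (a₁ ≫ g)).hom
  let φ₂ := (Spec.preimage (a₂ ≫ g)).hom
  have hφ : φ₁.comp (algebraMap k k') = φ₂.comp (algebraMap k k') := by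
    have : Spec.map (CommRingCat.ofHom (algebraMap k k') ≫ Spec.preimage (a₁ ≫ g)) =
        Spec.map (CommRingCat.ofHom (algebraMap k k') ≫ Spec.preimage (a₂ ≫ g)) := by
      rw [Spec.map_comp, Spec.map_comp, Spec.map_preimage, Spec.map_preimage]
      exact (Category.assoc a₁ _ _).trans (((congrArg (a₁ ≫ ·) h.w.symm).trans
        (((Category.assoc a₁ _ _).symm.trans (congrArg (· ≫ f) hp)).trans (Category.assoc a₂ _ _))).trans
        ((congrArg (a₂ ≫ ·) h.w).trans (Category.assoc a₂ _ _).symm))
    exact congrArg CommRingCat.Hom.hom (Spec.map_injective this)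
  letI : Algebra k' Ω := φ₁.toAlgebra
  letI : Algebra k Ω := (φ₁.comp (algebraMap k k')).toAlgebra
  haveI : IsScalarTower k k' Ω := .of_algebraMap_eq fun _ => rfl
  let ψ : k' →ₐ[k] Ω := { φ₂ with commutes' := fun r => (RingHom.congr_fun hφ r).symm }
  obtain ⟨σ, hσ⟩ := (Normal.algHomEquivAut (F := k) (K₁ := Ω) (E := k')).symm.surjective ψ
  have hs : CommRingCat.ofHom σ.toAlgHom.toRingHom ≫ Spec.preimage (a₁ ≫ g) = Spec.preimage (a₂ ≫ g) :=
    CommRingCat.hom_ext (RingHom.ext fun r => AlgHom.congr_fun hσ r)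
  have hw : p ≫ f = (g ≫ Spec.map (CommRingCat.ofHom σ.toAlgHom.toRingHom)) ≫
      Spec.map (CommRingCat.ofHom (algebraMap k k')) := by
    rw [Category.assoc, ← Spec.map_comp, h.w]
    congr 2
    exact CommRingCat.hom_ext σ.toAlgHom.comp_algebraMap.symm
  refine ⟨σ, h.lift p (g ≫ Spec.map (CommRingCat.ofHom σ.toAlgHom.toRingHom)) hw, h.lift_fst _ _ _,
    h.lift_snd _ _ _, ?_⟩
  have key : a₁ ≫ h.lift p (g ≫ Spec.map (CommRingCat.ofHom σ.toAlgHom.toRingHom)) hw = a₂ := by
    refine h.hom_ext (by rw [Category.assoc, h.lift_fst, hp]) ?_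
    rw [Category.assoc, h.lift_snd, ← Category.assoc, ← Spec.map_preimage (a₁ ≫ g), ← Spec.map_comp, hs,
      Spec.map_preimage]
  have := congrArg (fun φ => φ (IsLocalRing.closedPoint Ω)) key
  simp only [Scheme.Hom.comp_apply, ha₁, ha₂] at this
  exact this

/-- Automorphisms over the base preserve the fibre lengths. -/
theorem isIso_of_auto (h : IsPullback p g f (Spec.map (CommRingCat.ofHom (algebraMap k k'))))
    (σ : k' ≃ₐ[k] k') (t : X' ⟶ X') (h1 : t ≫ p = p)
    (h2 : t ≫ g = g ≫ Spec.map (CommRingCat.ofHom σ.toAlgHom.toRingHom)) : IsIso t := by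
  have hw : p ≫ f = (g ≫ Spec.map (CommRingCat.ofHom σ.symm.toAlgHom.toRingHom)) ≫
      Spec.map (CommRingCat.ofHom (algebraMap k k')) := by
    rw [Category.assoc, ← Spec.map_comp, h.w]
    congr 2
    exact CommRingCat.hom_ext σ.symm.toAlgHom.comp_algebraMap.symm
  have e₁ : CommRingCat.ofHom σ.toAlgHom.toRingHom ≫ CommRingCat.ofHom σ.symm.toAlgHom.toRingHom = 𝟙 _ :=
    CommRingCat.hom_ext (RingHom.ext fun r => σ.symm_apply_apply r)
  have e₂ : CommRingCat.ofHom σ.symm.toAlgHom.toRingHom ≫ CommRingCat.ofHom σ.toAlgHom.toRingHom = 𝟙 _ :=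
    CommRingCat.hom_ext (RingHom.ext fun r => σ.apply_symm_apply r)
  let t' := h.lift p (g ≫ Spec.map (CommRingCat.ofHom σ.symm.toAlgHom.toRingHom)) hw
  have h1' : t' ≫ p = p := h.lift_fst _ _ _
  have h2' : t' ≫ g = g ≫ Spec.map (CommRingCat.ofHom σ.symm.toAlgHom.toRingHom) := h.lift_snd _ _ _
  refine ⟨⟨t', h.hom_ext ?_ ?_, h.hom_ext ?_ ?_⟩⟩
  · rw [Category.assoc, h1', h1, Category.id_comp]
  · rw [Category.assoc, h2', reassoc_of% h2, ← Spec.map_comp, e₂, Spec.map_id, Category.comp_id,
      Category.id_comp]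
  · rw [Category.assoc, h1, h1', Category.id_comp]
  · rw [Category.assoc, h2, reassoc_of% h2', ← Spec.map_comp, e₁, Spec.map_id, Category.comp_id,
      Category.id_comp]

theorem flat_isFinite [FiniteDimensional k k']
    (h : IsPullback p g f (Spec.map (CommRingCat.ofHom (algebraMap k k')))) : Flat p ∧ IsFinite p := by
  have h1 : Flat (Spec.map (CommRingCat.ofHom (algebraMap k k'))) := by
    rw [HasRingHomProperty.Spec_iff (P := @Flat)]
    exact RingHom.flat_algebraMap_iff.2 inferInstance
  have h2 : IsFinite (Spec.map (CommRingCat.ofHom (algebraMap k k'))) :=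
    (IsFinite.SpecMap_iff _).2 (RingHom.finite_algebraMap.2 inferInstance)
  exact ⟨MorphismProperty.of_isPullback (P := @Flat) h.flip h1,
    MorphismProperty.of_isPullback (P := @IsFinite) h.flip h2⟩

theorem finrank_eq [FiniteDimensional k k']
    (h : IsPullback p g f (Spec.map (CommRingCat.ofHom (algebraMap k k')))) (x : X) :
    Scheme.Hom.finrank p x = Module.finrank k k' := by
  have h1 : Flat (Spec.map (CommRingCat.ofHom (algebraMap k k'))) := by
    rw [HasRingHomProperty.Spec_iff (P := @Flat)]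
    exact RingHom.flat_algebraMap_iff.2 inferInstance
  have h2 : IsFinite (Spec.map (CommRingCat.ofHom (algebraMap k k'))) :=
    (IsFinite.SpecMap_iff _).2 (RingHom.finite_algebraMap.2 inferInstance)
  rw [Scheme.Hom.finrank_of_isPullback g p _ f h.flip x, Scheme.Hom.finrank_SpecMap_eq_finrank]
  · show RingHom.finrank (algebraMap k k') _ = _
    simp [Module.rankAtStalk_eq_finrank_of_free]
  · exact RingHom.finite_algebraMap.2 inferInstance
  · exact RingHom.flat_algebraMap_iff.2 inferInstance

/-- For a purely inseparable extension the fibre lengths divide the degree. -/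
theorem len_dvd_of_purelyInseparable [FiniteDimensional k k'] [IsPurelyInseparable k k']
    (h : IsPullback p g f (Spec.map (CommRingCat.ofHom (algebraMap k k')))) (x' : X') :
    (lenFibre p x').toNat ∣ Module.finrank k k' := by
  obtain ⟨_, _⟩ := flat_isFinite h
  haveI : Normal k k' := inferInstance
  have hinj : ∀ a b : X', p a = p b → a = b := fun a b hab => by
    obtain ⟨σ, t, h1, h2, h3⟩ := exists_auto h a b hab
    have hσ : σ.toAlgHom = AlgHom.id k k' := Subsingleton.elim _ _
    have ht : t = 𝟙 X' := h.hom_ext (by rw [h1, Category.id_comp]) (by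
      rw [h2, hσ, Category.id_comp]
      exact (congrArg (g ≫ ·) (Spec.map_id _)).trans (Category.comp_id g))
    rw [← h3, ht]
    rfl
  have hs := FlatMorWeightLen.finrank_eq_sum_fibre p (p x')
  haveI : Subsingleton {u : X' // p u = p x'} := ⟨fun a b => Subtype.ext (hinj _ _ (a.2.trans b.2.symm))⟩
  rw [finrank_eq h, finsum_eq_single _ (⟨x', rfl⟩ : {u : X' // p u = p x'})
    (fun u hu => absurd (Subsingleton.elim u _) hu)] at hs
  have := congrArg ENat.toNat hs
  rw [ENat.toNat_natCast, ENat.toNat_mul, ENat.toNat_natCast] at this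
  exact ⟨_, by rw [this, mul_comm]⟩

/-- The fibre lengths divide the inseparable degree. -/
theorem len_dvd [FiniteDimensional k k']
    (h : IsPullback p g f (Spec.map (CommRingCat.ofHom (algebraMap k k')))) (x' : X') :
    (lenFibre p x').toNat ∣ Field.finInsepDegree k k' := by
  let E := separableClosure k k'
  let r : pullback f (Spec.map (CommRingCat.ofHom (algebraMap k E))) ⟶ X := pullback.fst _ _
  let f' := pullback.snd f (Spec.map (CommRingCat.ofHom (algebraMap k E)))
  have he : Spec.map (CommRingCat.ofHom (algebraMap E k')) ≫ Spec.map (CommRingCat.ofHom (algebraMap k E)) =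
      Spec.map (CommRingCat.ofHom (algebraMap k k')) := by
    rw [← Spec.map_comp]
    congr 1
  let q : X' ⟶ pullback f (Spec.map (CommRingCat.ofHom (algebraMap k E))) :=
    pullback.lift p (g ≫ Spec.map (CommRingCat.ofHom (algebraMap E k'))) (by rw [Category.assoc, he, h.w])
  have hq : IsPullback q g f' (Spec.map (CommRingCat.ofHom (algebraMap E k'))) := by
    refine IsPullback.of_right ?_ (pullback.lift_snd _ _ _) (IsPullback.of_hasPullback f _)
    rwa [pullback.lift_fst, he]
  haveI : Flat q := (flat_isFinite hq).1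
  haveI : Etale (Spec.map (CommRingCat.ofHom (algebraMap k E))) := by
    rw [HasRingHomProperty.Spec_iff (P := @Etale)]
    haveI : Algebra.IsSeparable k E := separableClosure.isSeparable k k'
    haveI : Algebra.FormallyEtale k E := (Algebra.FormallyEtale.iff_isSeparable k E).2 inferInstance
    haveI : Algebra.FinitePresentation k E := Algebra.FinitePresentation.of_finiteType.1 inferInstance
    exact RingHom.etale_algebraMap.2 ({} : Algebra.Etale k E)
  haveI : Etale r := MorphismProperty.pullback_fst (P := @Etale) _ _ inferInstance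
  have hp : p = q ≫ r := (pullback.lift_fst _ _ _).symm
  rw [hp, lenFibre_comp, FlatMorWeightLen.lenFibre_etale, one_mul]
  exact len_dvd_of_purelyInseparable hq x'

/-- Descent of an invariant cycle. -/
theorem main [FiniteDimensional k k'] [Normal k k']
    (h : IsPullback p g f (Spec.map (CommRingCat.ofHom (algebraMap k k'))))
    (Z' : AlgebraicCycle X' ℤ)
    (hZ' : ∀ (σ : k' ≃ₐ[k] k') (t : X' ⟶ X'), t ≫ p = p →
      t ≫ g = g ≫ Spec.map (CommRingCat.ofHom σ.toAlgHom.toRingHom) → ∀ x', Z' (t.base x') = Z' x') :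
    ∃! Z : AlgebraicCycle X ℤ, ∀ x' : ↥X',
      (Field.finInsepDegree k k' : ℤ) * Z' x' = Cyc.pullFun p (fun _ => 0) (fun _ => 0) 0 ⇑Z x' := by
  obtain ⟨_, _⟩ := flat_isFinite h
  have hsurj : Function.Surjective p := fun x => by
    have hs : Surjective (Spec.map (CommRingCat.ofHom (algebraMap k k'))) :=
      ⟨fun z => ⟨IsLocalRing.closedPoint k', Subsingleton.elim _ _⟩⟩
    exact (MorphismProperty.of_isPullback (P := @Surjective) h.flip hs).surj x
  have hpull : ∀ (F : X → ℤ) (x' : X'), Cyc.pullFun p (fun _ => 0) (fun _ => 0) 0 F x' =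
      F (p x') * ((lenFibre p x').toNat : ℤ) := fun F x' => by
    rw [Cyc.pullFun, if_pos (by simp)]
    rfl
  have hne : ∀ x', ((lenFibre p x').toNat : ℤ) ≠ 0 := fun x' hx => by
    have h0 : lenFibre p x' ≠ 0 := by
      rw [lenFibre, ne_eq, Module.length_eq_zero_iff, not_subsingleton_iff_nontrivial]
      exact Ideal.Quotient.nontrivial_iff.2 (ne_top_of_le_ne_top (maximalIdeal.isMaximal _).ne_top
        (((IsLocalRing.local_hom_TFAE (p.stalkMap x').hom).out 0 2 rfl rfl).mp inferInstance))
    have := FlatMorWeightLen.isFiniteLength_fibre p x'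
    rw [Nat.cast_eq_zero, ENat.toNat_eq_zero] at hx
    tauto
  choose s hs using hsurj
  let F : X → ℤ := fun x => ((Field.finInsepDegree k k' / (lenFibre p (s x)).toNat : ℕ) : ℤ) * Z' (s x)
  have hF : ∀ x', (Field.finInsepDegree k k' : ℤ) * Z' x' = F (p x') * ((lenFibre p x').toNat : ℤ) := by
    intro x'
    obtain ⟨σ, t, h1, h2, h3⟩ := exists_auto h (s (p x')) x' (hs _)
    have := isIso_of_auto h σ t h1 h2
    have hZ : Z' x' = Z' (s (p x')) := (congrArg Z' h3).symm.trans (hZ' σ t h1 h2 _)
    have hl : lenFibre p (s (p x')) = lenFibre p x' := by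
      rw [show lenFibre p (s (p x')) = lenFibre (t ≫ p) (s (p x')) by rw [h1], lenFibre_comp,
        PB.lenFibre_iso t, mul_one]
      exact congrArg (lenFibre p) h3
    rw [hZ, ← hl]
    show _ = ((Field.finInsepDegree k k' / _ : ℕ) : ℤ) * Z' (s (p x')) * _
    rw [mul_right_comm, ← Nat.cast_mul, Nat.div_mul_cancel (len_dvd h _)]
  let Z : AlgebraicCycle X ℤ :=
    { toFun := F
      supportWithinDomain' := fun _ _ => trivial
      supportLocallyFiniteWithinDomain' := fun x _ => by
        obtain ⟨U, hU, hx, -⟩ := exists_isAffineOpen_mem_and_subset (x := x) (U := (⊤ : X.Opens)) trivial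
        refine ⟨U, U.2.mem_nhds hx, ?_⟩
        have hc : IsCompact ((p ⁻¹ᵁ U : X'.Opens) : Set X') := (hU.preimage p).isCompact
        refine ((LocallyFiniteSupport.finite_inter_support_of_isCompact (f := ⇑Z') (fun z => Z'.supportLocallyFiniteWithinDomain' z trivial) hc).image p).subset ?_
        rintro y ⟨hyU, hy⟩
        refine ⟨s y, ⟨show p (s y) ∈ U by rwa [hs], fun h0 => hy ?_⟩, hs y⟩
        show _ * Z' (s y) = 0
        rw [h0, mul_zero] }
  refine ⟨Z, fun x' => (hF x').trans (hpull F x').symm, fun Z₂ hZ₂ => ?_⟩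
  ext x
  have h2 := (hZ₂ (s x)).symm.trans (hF (s x))
  rw [hpull, hs] at h2
  exact mul_right_cancel₀ (hne (s x)) h2

end Groth.Agent.CycDesc28
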